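import Cfsg.Agent.Lib.CharDeep.Blichfeldt
import Cfsg.Agent.Lib.Char.Constituent
import Cfsg.Agent.Lib.Char.Linear
import Cfsg.Agent.Lib.DegreeTools.Basic
import Cfsg.Agent.S0898

/-!
# Faithful characters of small degree: the minimal counterexample
-/

set_option autoImplicit false

open scoped InnerProductSpace
open Subgroup

namespace CfsgLib.CharDeep.SmallFaithful

open CfsgLib

variable {G : Type*} [Group G] [Finite G] {p : ℕ} [hp : Fact p.Prime]

/-- A faithful representation of degree below `p` makes the `p`-subgroups abelian. -/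
theorem pGroup_comm {χ : G → ℂ} (hχ : Cfsg.IsCharacter G χ) (hfaith : ∀ g : G, χ g = χ 1 → g = 1)
    (hn : Cfsg.charDegree χ < p) {P : Subgroup G} (hP : IsPGroup p P) :
    ∀ x ∈ P, ∀ y ∈ P, x * y = y * x := by
  classical
  cases nonempty_fintype G
  obtain ⟨m, ρ, rfl⟩ := hχ
  have hm : Cfsg.charDegree ρ.character = m := by
    rw [Cfsg.charDegree, Representation.char_one, Module.finrank_fin_fun, Complex.natCast_re,
      Nat.floor_natCast]
  obtain ⟨W, σ, hU, hdim, hker⟩ := SmallCommute.exists_unitary ρ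
  have hinj : Function.Injective σ := fun a b e => by
    have h1 : σ (a⁻¹ * b) = 1 := by rw [map_mul, ← e, ← map_mul, inv_mul_cancel, map_one]
    have h2 : a⁻¹ * b = 1 := hfaith _ (by
      show LinearMap.trace ℂ _ (ρ (a⁻¹ * b)) = LinearMap.trace ℂ _ (ρ 1)
      rw [hker _ h1, map_one ρ])
    exact inv_mul_eq_one.1 h2
  exact Blichfeldt.comm_of_pGroup (V := W) σ hU hinj (by omega) hP

/-- Degrees do not grow on restriction. -/
theorem deg_restrict (χ : G → ℂ) (H : Subgroup G) :
    Cfsg.charDegree (fun h : H => χ h) = Cfsg.charDegree χ := rfl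

theorem faithful_restrict {χ : G → ℂ} (hfaith : ∀ g : G, χ g = χ 1 → g = 1) (H : Subgroup G)
    (h : H) (he : χ h = χ 1) : h = 1 := Subtype.ext (hfaith h he)

/-- If the Sylow subgroup of every proper subgroup containing `P` is normal, a subgroup containing
`P` normalizes it or is everything. -/
theorem le_normalizer_of_proper (P : Sylow p G)
    (hsub : ∀ H : Subgroup G, H ≠ ⊤ → ∀ Q : Sylow p H, (Q : Subgroup H).Normal) {H : Subgroup G}
    (hH : H ≠ ⊤) (hPH : (P : Subgroup G) ≤ H) : H ≤ normalizer ((P : Subgroup G) : Set G) := by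
  have h1 := hsub H hH (P.subtype hPH)
  rw [Sylow.coe_subtype] at h1
  exact (normal_subgroupOf_iff_le_normalizer hPH).1 h1

/-- No proper normal subgroup contains `P`. -/
theorem eq_top_of_normal_ge (P : Sylow p G) (hP : ¬ (P : Subgroup G).Normal)
    (hsub : ∀ H : Subgroup G, H ≠ ⊤ → ∀ Q : Sylow p H, (Q : Subgroup H).Normal) {M : Subgroup G}
    (hM : M.Normal) (hPM : (P : Subgroup G) ≤ M) : M = ⊤ := by
  by_contra h
  have hQ := hsub M h (P.subtype hPM)
  have hc := Sylow.characteristic_of_normal _ hQ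
  have := ConjAct.normal_of_characteristic_of_normal
    (K := (P.subtype hPM : Subgroup M))
  rw [Sylow.coe_subtype, subgroupOf_map_subtype, inf_eq_left.2 hPM] at this
  exact hP this

/-- Some nonlinear constituent moves `P`. -/
theorem exists_moving [Fintype G] (P : Sylow p G) (hP : ¬ (P : Subgroup G).Normal) {χ : G → ℂ}
    (hχ : Cfsg.IsCharacter G χ) (hfaith : ∀ g : G, χ g = χ 1 → g = 1) :
    ∃ ψ : Cfsg.IrrCharacter G, Cfsg.charDegree (ψ : G → ℂ) ≤ Cfsg.charDegree χ ∧
      (ψ : G → ℂ) 1 ≠ 1 ∧ ∃ h ∈ (P : Subgroup G), (ψ : G → ℂ) h ≠ (ψ : G → ℂ) 1 := by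
  classical
  by_contra hcon
  push Not at hcon
  refine hP ⟨fun b hb g => ?_⟩
  obtain ⟨m, hm, hexp⟩ := Char.IsCharacter.exists_multiplicity hχ
  have key : ∀ c : G, χ (b * c * b⁻¹ * c⁻¹) = χ 1 := by
    intro c
    rw [hexp, hexp 1]
    refine Finset.sum_congr rfl fun φ _ => ?_
    by_cases h0 : m φ = 0
    · simp [h0]
    congr 1
    by_cases h1 : (φ : G → ℂ) 1 = 1
    · obtain ⟨f, hf⟩ := Char.exists_hom_of_apply_one_eq_one (Char.isCharacter_irr φ) h1
      simp [hf, mul_comm (f b)]
    · obtain ⟨a, d, ha, hd, had, -⟩ :=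
        Char.IsCharacter.constituent_degree_le hχ φ.2 (by rw [hm]; exact_mod_cast h0)
      have hle : Cfsg.charDegree (φ : G → ℂ) ≤ Cfsg.charDegree χ := by
        have e1 : Cfsg.charDegree (φ : G → ℂ) = a := by rw [Cfsg.charDegree, ha]; simp
        have e2 : Cfsg.charDegree χ = d := by rw [Cfsg.charDegree, hd]; simp
        omega
      have hker := hcon φ hle h1
      have hbK : b ∈ Char.charKer (Char.isCharacter_irr φ) := hker b hb
      have hn := Char.charKer_normal (Char.isCharacter_irr φ)
      have : b * (c * b⁻¹ * c⁻¹) ∈ Char.charKer (Char.isCharacter_irr φ) :=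
        mul_mem hbK (hn.conj_mem _ (inv_mem hbK) c)
      rw [Char.mem_charKer] at this
      rw [← this]
      simp [mul_assoc]
  have hc := hfaith _ (key g)
  rw [mul_inv_eq_one] at hc
  have hc' : b * g = g * b := mul_inv_eq_iff_eq_mul.1 hc
  rwa [← hc', mul_inv_cancel_right]

/-- Centralizers of noncentral elements meet at most one conjugate. -/
theorem separated (P : Sylow p G) (hab : ∀ x ∈ (P : Subgroup G), ∀ y ∈ (P : Subgroup G), x * y = y * x)
    (hsub : ∀ H : Subgroup G, H ≠ ⊤ → ∀ Q : Sylow p H, (Q : Subgroup H).Normal)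
    (hPZ : (P : Subgroup G) ⊓ center G = ⊥)
    (g : G) (hg : g ∉ center G) (a b : G)
    (ha : centralizer ({g} : Set G) ⊓ (P : Subgroup G).map (MulAut.conj a).toMonoidHom ≠ ⊥)
    (hb : centralizer ({g} : Set G) ⊓ (P : Subgroup G).map (MulAut.conj b).toMonoidHom ≠ ⊥) :
    (P : Subgroup G).map (MulAut.conj a).toMonoidHom = (P : Subgroup G).map (MulAut.conj b).toMonoidHom := by
  classical
  set C := centralizer ({g} : Set G) with hC
  have hCtop : C ≠ ⊤ := fun h => hg (by
    rw [hC, centralizer_eq_top_iff_subset] at h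
    exact h (Set.mem_singleton g))
  -- the conjugate meeting `C` is the one containing the Sylow subgroup of `C`
  obtain ⟨R⟩ : Nonempty (Sylow p C) := inferInstance
  haveI hRn := hsub C hCtop R
  set R' := (R : Subgroup C).map C.subtype with hR'
  have key : ∀ c : G, C ⊓ (P : Subgroup G).map (MulAut.conj c).toMonoidHom ≠ ⊥ →
      ∃ u ∈ R', u ≠ 1 ∧ u ∈ (P : Subgroup G).map (MulAut.conj c).toMonoidHom := by
    intro c hc
    obtain ⟨u, hu, hu1⟩ := (bot_or_exists_ne_one _).resolve_left hc
    refine ⟨u, ?_, hu1, hu.2⟩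
    have hpow : ∃ k, orderOf u = p ^ k := IsPGroup.iff_orderOf.1 (P.2.map _) ⟨u, hu.2⟩ |>.imp
      fun k hk => by rw [← hk, Subgroup.orderOf_mk]
    obtain ⟨k, hk⟩ := hpow
    have hz : IsPGroup p (zpowers (⟨u, hu.1⟩ : C)) := IsPGroup.of_card (n := k) (by
      rw [Nat.card_zpowers, Subgroup.orderOf_mk, hk])
    have h1 : zpowers (⟨u, hu.1⟩ : C) ≤ (R : Subgroup C) := by
      have h2 := R.3 (IsPGroup.to_sup_of_normal_left R.2 hz) le_sup_left
      exact h2.le.trans' le_sup_right
    exact ⟨⟨u, hu.1⟩, h1 (mem_zpowers _), rfl⟩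
  -- and two conjugates through a common nontrivial element agree
  have meet : ∀ (u : G), u ≠ 1 → ∀ c d : G, u ∈ (P : Subgroup G).map (MulAut.conj c).toMonoidHom →
      u ∈ (P : Subgroup G).map (MulAut.conj d).toMonoidHom → u ∉ center G →
      (P : Subgroup G).map (MulAut.conj c).toMonoidHom = (P : Subgroup G).map (MulAut.conj d).toMonoidHom := by
    intro u hu1 c d huc hud huZ
    have hD : centralizer ({u} : Set G) ≠ ⊤ := fun h => huZ (by
      rw [centralizer_eq_top_iff_subset] at h
      exact h (Set.mem_singleton u))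
    obtain ⟨S⟩ : Nonempty (Sylow p (centralizer ({u} : Set G))) := inferInstance
    have hSn := hsub _ hD S
    have hle : ∀ e : G, u ∈ (P : Subgroup G).map (MulAut.conj e).toMonoidHom →
        (P : Subgroup G).map (MulAut.conj e).toMonoidHom =
          (S : Subgroup (centralizer ({u} : Set G))).map (centralizer ({u} : Set G)).subtype := by
      intro e hue
      have hPe : (P : Subgroup G).map (MulAut.conj e).toMonoidHom ≤ centralizer ({u} : Set G) := by
        rintro _ ⟨z, hz, rfl⟩
        obtain ⟨w, hw, hwu⟩ := hue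
        rw [mem_centralizer_singleton_iff, ← hwu, ← map_mul, ← map_mul, hab z hz w hw]
      set T := ((P : Subgroup G).map (MulAut.conj e).toMonoidHom).subgroupOf (centralizer ({u} : Set G))
      have hT : IsPGroup p T := (P.2.map _).comap_subtype
      have h1 : T ≤ (S : Subgroup (centralizer ({u} : Set G))) := by
        haveI := hSn
        exact (S.3 (IsPGroup.to_sup_of_normal_left S.2 hT) le_sup_left).le.trans' le_sup_right
      have h2 : (P : Subgroup G).map (MulAut.conj e).toMonoidHom ≤
          (S : Subgroup (centralizer ({u} : Set G))).map (centralizer ({u} : Set G)).subtype :=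
        fun z hz => ⟨⟨z, hPe hz⟩, h1 hz, rfl⟩
      obtain ⟨k, hk⟩ := (S.2.map (centralizer ({u} : Set G)).subtype).exists_card_eq
      refine Subgroup.eq_of_le_of_card_ge h2 ?_
      rw [hk, card_map_of_injective (f := (MulAut.conj e).toMonoidHom) (MulAut.conj e).injective, P.card_eq_multiplicity]
      refine Nat.pow_le_pow_right hp.out.pos ?_
      rw [← hp.out.pow_dvd_iff_le_factorization Nat.card_pos.ne', ← hk]
      exact card_subgroup_dvd_card _
    rw [hle c huc, hle d hud]
  obtain ⟨u, huR, hu1, hua⟩ := key a ha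
  obtain ⟨v, hvR, hv1, hvb⟩ := key b hb
  -- `R'` lies in a single conjugate
  obtain ⟨S, hS⟩ := IsPGroup.exists_le_sylow (R.2.map C.subtype : IsPGroup p R')
  obtain ⟨e, he⟩ := MulAction.exists_smul_eq G P S
  have hRe : R' ≤ (P : Subgroup G).map (MulAut.conj e).toMonoidHom := by
    refine hS.trans ?_
    rw [← he]
    exact le_rfl
  have hnc : ∀ w : G, w ≠ 1 → ∀ c : G, w ∈ (P : Subgroup G).map (MulAut.conj c).toMonoidHom →
      w ∉ center G := by
    intro w hw c hwc hwZ
    obtain ⟨z, hz, rfl⟩ := hwc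
    simp only [MulEquiv.coe_toMonoidHom, MulAut.conj_apply] at hw hwZ
    have h1 : c * z * c⁻¹ = z := by
      have h2 := mem_center_iff.1 hwZ c
      have h3 : c * (c * z * c⁻¹) = c * z := by rw [h2]; group
      exact mul_left_cancel h3
    rw [h1] at hw hwZ
    have : z ∈ (P : Subgroup G) ⊓ center G := ⟨hz, hwZ⟩
    rw [hPZ, mem_bot] at this
    exact hw this
  exact (meet u hu1 a e hua (hRe huR) (hnc u hu1 a hua)).trans
    (meet v hv1 b e hvb (hRe hvR) (hnc v hv1 b hvb)).symm

end CfsgLib.CharDeep.SmallFaithful
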