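import Cfsg.Agent.Lib.CharDeep.SmallFaithful.Centre

/-!
# Feit–Thompson–Blichfeldt: small faithful degree gives a normal Sylow subgroup
-/

set_option autoImplicit false

open Subgroup

namespace CfsgLib.CharDeep.SmallFaithful

open CfsgLib

universe u

theorem sylow_normal_aux {p : ℕ} [hp : Fact p.Prime] :
    ∀ (m : ℕ) (G : Type u) [Group G] [Finite G], Nat.card G = m → ∀ χ : G → ℂ,
      Cfsg.IsCharacter G χ → (∀ g : G, χ g = χ 1 → g = 1) →
      ((Cfsg.charDegree χ + 1) ^ 2 ≤ p ∨ (Cfsg.charDegree χ + 1 < p ∧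
        ∀ K : Subgroup G, ¬ p ^ 2 ∣ Nat.card K → ∀ Q : Sylow p K, (Q : Subgroup K).Normal)) →
      ∀ P : Sylow p G, (P : Subgroup G).Normal := by
  intro m
  induction m using Nat.strong_induction_on with
  | _ m ih =>
  intro G _ _ hm χ hχ hfaith h P
  classical
  cases nonempty_fintype G
  by_contra hP
  have hp2 := hp.out.two_le
  set n := Cfsg.charDegree χ with hn
  have hn1 : n + 1 < p := by
    rcases h with h | h
    · rcases Nat.eq_zero_or_pos n with h0 | h0
      · omega
      · nlinarith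
    · exact h.1
  have hsub : ∀ H : Subgroup G, H ≠ ⊤ → ∀ Q : Sylow p H, (Q : Subgroup H).Normal := by
    intro H hH
    refine ih (Nat.card H) (hm ▸ lt_of_le_of_ne (card_le_card_group H)
      fun e => hH (H.eq_top_of_card_eq e)) H rfl _ (Char.IsCharacter.restrict hχ H)
      (fun g e => faithful_restrict hfaith H g e) ?_
    rcases h with h | ⟨h1, hK⟩
    · exact .inl h
    refine .inr ⟨h1, fun K hKp Q => ?_⟩
    let e := K.equivMapOfInjective H.subtype H.subtype_injective
    have hc : Nat.card (K.map H.subtype) = Nat.card K := (Nat.card_congr e.toEquiv).symm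
    have h2 := hK (K.map H.subtype) (hc ▸ hKp) (Q.mapSurjective (f := e.toMonoidHom) e.surjective)
    have h3 := Subgroup.Normal.comap (H := (Q : Subgroup K).map e.toMonoidHom) h2 e.toMonoidHom
    rwa [comap_map_eq_self_of_injective e.injective] at h3
  have hab := pGroup_comm hχ hfaith (by omega) P.2
  have hPZ := inf_center_eq_bot hχ hfaith hn1 P hP hsub
  obtain ⟨ψ, hψn, hψ1, hmove⟩ := exists_moving P hP hχ hfaith
  have key := (Cfsg.Agent.S0898.result (P : Subgroup G) hab hPZ
    (fun g hg a b ha hb => separated P hab hsub hPZ g hg a b ha hb) _ ψ.2 hmove).2 hψ1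
    (fun M hM hPM => eq_top_of_normal_ge P hP hsub hM hPM)
  rw [show ((ψ : G → ℂ) 1).re = (Cfsg.charDegree (ψ : G → ℂ) : ℝ) by
    rw [← DegreeTools.charDegree_cast (Char.isCharacter_irr ψ), Complex.natCast_re]] at key
  have key' : Nat.card (P : Subgroup G) < (n + 1) ^ 2 := by
    have h1 : Nat.card (P : Subgroup G) < (1 + Cfsg.charDegree (ψ : G → ℂ)) ^ 2 := by exact_mod_cast key
    exact h1.trans_le (Nat.pow_le_pow_left (by omega) 2)
  obtain ⟨a, ha⟩ := P.2.exists_card_eq
  rw [ha] at key'
  rcases Nat.eq_zero_or_pos a with h0 | h0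
  · rw [h0, pow_zero] at ha
    exact hP (eq_bot_of_card_eq _ ha ▸ inferInstance)
  rcases h with h | ⟨-, hK⟩
  · have := Nat.le_self_pow h0.ne' p
    omega
  have ha1 : a = 1 := by
    by_contra hne
    have h2 : p ^ 2 ≤ p ^ a := Nat.pow_le_pow_right hp.out.pos (by omega)
    have h3 : (n + 1) ^ 2 < p ^ 2 := Nat.pow_lt_pow_left hn1 (by norm_num)
    omega
  have hsq : ¬ p ^ 2 ∣ Nat.card (⊤ : Subgroup G) := by
    rw [card_top, hp.out.pow_dvd_iff_le_factorization Nat.card_pos.ne']
    have h1 := P.card_eq_multiplicity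
    rw [ha, ha1] at h1
    have := Nat.pow_right_injective hp2 h1
    omega
  have h4 := hK ⊤ hsq (P.subtype le_top)
  rw [Sylow.coe_subtype] at h4
  have h5 := (normal_subgroupOf_iff_le_normalizer le_top).1 h4
  exact hP (normalizer_eq_top_iff.1 (top_le_iff.1 h5))

end CfsgLib.CharDeep.SmallFaithful
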