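import Cfsg.Agent.Lib.CharDeep.SmallFaithful.Coprime

/-!
# A minimal counterexample has no central `p`-elements
-/

set_option autoImplicit false

open Subgroup

namespace CfsgLib.CharDeep.SmallFaithful

open CfsgLib

variable {G : Type*} [Group G] [Finite G] {p : ℕ} [hp : Fact p.Prime]

/-- In a minimal group without normal Sylow subgroup and with a small faithful character, the
Sylow subgroup meets the centre trivially. -/
theorem inf_center_eq_bot {χ : G → ℂ} (hχ : Cfsg.IsCharacter G χ)
    (hfaith : ∀ g : G, χ g = χ 1 → g = 1) (hn : Cfsg.charDegree χ + 1 < p) (P : Sylow p G)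
    (hP : ¬ (P : Subgroup G).Normal)
    (hsub : ∀ H : Subgroup G, H ≠ ⊤ → ∀ Q : Sylow p H, (Q : Subgroup H).Normal) :
    (P : Subgroup G) ⊓ center G = ⊥ := by
  classical
  have hp' := hp.out
  by_contra hne
  obtain ⟨z₀, hz₀, hz₀1⟩ := (bot_or_exists_ne_one _).resolve_left hne
  obtain ⟨hz₀P, hz₀Z⟩ := Subgroup.mem_inf.1 hz₀
  obtain ⟨j, hj⟩ := IsPGroup.iff_orderOf.1 P.2 ⟨z₀, hz₀P⟩
  rw [Subgroup.orderOf_mk] at hj
  have hj0 : j ≠ 0 := fun h => hz₀1 (by rw [h, pow_zero, orderOf_eq_one_iff] at hj; exact hj)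
  set z := z₀ ^ p ^ (j - 1) with hz
  have hzo : orderOf z = p := by
    rw [hz, orderOf_pow' _ (pow_ne_zero _ hp'.ne_zero), hj,
      Nat.gcd_eq_right (pow_dvd_pow p (by omega)), Nat.pow_div (by omega) hp'.pos,
      show j - (j - 1) = 1 by omega, pow_one]
  have hzZ : z ∈ center G := pow_mem hz₀Z _
  cases nonempty_fintype G
  obtain ⟨m, ρ, hρ⟩ := hχ
  have hm : Cfsg.charDegree χ = m := by
    rw [← hρ, Cfsg.charDegree, Representation.char_one, Module.finrank_fin_fun, Complex.natCast_re,
      Nat.floor_natCast]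
  obtain ⟨W, σ, hU, hdim, hker⟩ := SmallCommute.exists_unitary ρ
  have hinj : Function.Injective σ := fun a b e => by
    have h1 : σ (a⁻¹ * b) = 1 := by rw [map_mul, ← e, ← map_mul, inv_mul_cancel, map_one]
    have h2 : a⁻¹ * b = 1 := hfaith _ (by
      rw [← hρ]
      show LinearMap.trace ℂ _ (ρ (a⁻¹ * b)) = LinearMap.trace ℂ _ (ρ 1)
      rw [hker _ h1, map_one ρ])
    exact inv_mul_eq_one.1 h2
  obtain ⟨K, hKn, hzK, k, hk⟩ := Blichfeldt.exists_kernel (V := W) σ hinj
    (by omega) hzo hzZ
  haveI := hKn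
  have hKtop : K ≠ ⊤ := fun h => hzK (h ▸ mem_top z)
  have hPab := pGroup_comm ⟨m, ρ, hρ⟩ hfaith (by omega) P.2
  let S : Sylow p K := default
  have hSn := hsub K hKtop S
  have hSc := Sylow.characteristic_of_normal S hSn
  set S' := (S : Subgroup K).map K.subtype with hS'
  have hS'n : S'.Normal := ConjAct.normal_of_characteristic_of_normal
  have hS'P : S' ≤ (P : Subgroup G) :=
    (P.3 (IsPGroup.to_sup_of_normal_right P.2 (S.2.map K.subtype)) le_sup_left).le.trans' le_sup_right
  haveI := hS'n
  have hcn : (centralizer (S' : Set G)).Normal := Subgroup.normal_centralizer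
  have hctop := eq_top_of_normal_ge P hP hsub hcn fun x hx =>
    mem_centralizer_iff.2 fun y hy => hPab y (hS'P hy) x hx
  have hScen : ∀ s ∈ (S : Subgroup K), ∀ g : G, g * s = s * g := fun s hs g => by
    have hg : g ∈ centralizer (S' : Set G) := hctop ▸ mem_top g
    exact ((mem_centralizer_iff.1 hg) (s : G) ⟨s, hs, rfl⟩).symm
  -- the centralizer of `P` contains a Sylow subgroup for every prime
  refine hP ⟨fun n hn g => ?_⟩
  suffices htop : centralizer ((P : Subgroup G) : Set G) = ⊤ by
    have hg : g ∈ centralizer ((P : Subgroup G) : Set G) := htop ▸ mem_top g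
    rwa [← mem_centralizer_iff.1 hg n hn, mul_inv_cancel_right]
  rw [← index_eq_one, Nat.eq_one_iff_not_exists_prime_dvd]
  intro q hq hqd
  haveI : Fact q.Prime := ⟨hq⟩
  by_cases hqp : q = p
  · subst hqp
    exact P.not_dvd_index (hqd.trans (index_dvd_of_le fun x hx =>
      mem_centralizer_iff.2 fun y hy => hPab y hy x hx))
  let R : Sylow q K := default
  set Q := (R : Subgroup K).map K.subtype with hQ
  have hKR : (normalizer (Q : Set G)) ⊔ K = ⊤ := R.normalizer_sup_eq_top
  -- a conjugate of `P` normalizes `Q`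
  have hnp : ¬ p ∣ (normalizer (Q : Set G)).index := by
    intro hd
    set N := normalizer (Q : Set G)
    have h2 : N.index ∣ (N.subgroupOf K).index := by
      have e1 : (N ⊓ K).index = N.relIndex K * K.index := by
        rw [← inf_relIndex_right, relIndex_mul_index inf_le_right]
      have e2 : (N ⊓ K).index = K.relIndex N * N.index := by
        rw [← inf_relIndex_left, relIndex_mul_index inf_le_left]
      have e3 : K.relIndex N = K.index := by
        rw [← relIndex_top_right K, ← hKR, relIndex_sup_right]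
      have h3 : K.index * N.index = K.index * N.relIndex K := by
        rw [mul_comm K.index (N.relIndex K), ← e1, e2, e3]
      exact (Nat.eq_of_mul_eq_mul_left (Nat.pos_of_ne_zero index_ne_zero_of_finite) h3).dvd
    have h4 : (S : Subgroup K) ≤ N.subgroupOf K := fun s hs => by
      rw [mem_subgroupOf, mem_normalizer_iff]
      intro w
      rw [← hScen s hs w, mul_inv_cancel_right]
    exact S.not_dvd_index ((hd.trans h2).trans (index_dvd_of_le h4))
  obtain ⟨P', hP'⟩ := Blichfeldt.exists_sylow_le (p := p) (normalizer (Q : Set G)) hnp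
  have hP'Q : (P' : Subgroup G) ≤ centralizer (Q : Set G) := by
    intro y hy
    obtain ⟨i, hi⟩ := IsPGroup.iff_orderOf.1 P'.2 ⟨y, hy⟩
    rw [Subgroup.orderOf_mk] at hi
    refine mem_centralizer_iff.2 fun w hw => ?_
    have := commute_of_normalizes (r := q) ⟨m, ρ, hρ⟩ hfaith (by omega) hqp hi _ Q rfl
      (R.2.map K.subtype) (fun v hv => (mem_normalizer_iff.1 (hP' hy) v).1 hv) w hw
    exact (mul_inv_eq_iff_eq_mul.1 this).symm
  obtain ⟨c, hc⟩ := MulAction.exists_smul_eq G P' P
  have hQc : Q.map (MulAut.conj c).toMonoidHom ≤ centralizer ((P : Subgroup G) : Set G) := by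
    rintro _ ⟨w, hw, rfl⟩
    refine mem_centralizer_iff.2 fun b hb => ?_
    rw [← hc] at hb
    obtain ⟨b', hb', rfl⟩ := hb
    show MulAut.conj c b' * MulAut.conj c w = MulAut.conj c w * MulAut.conj c b'
    rw [← map_mul, ← map_mul, mem_centralizer_iff.1 (hP'Q hb') w hw]
  have h1 := hqd.trans (index_dvd_of_le hQc)
  rw [index_map, (MonoidHom.ker_eq_bot_iff _).2 (MulAut.conj c).injective, sup_bot_eq,
    MonoidHom.range_eq_top.2 (MulAut.conj c).surjective, index_top, mul_one, hQ,
    index_map_subtype, hq.dvd_mul, hk] at h1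
  rcases h1 with h1 | h1
  · exact R.not_dvd_index h1
  · exact hqp ((Nat.prime_dvd_prime_iff_eq hq hp').1 (hq.dvd_of_dvd_pow h1))

end CfsgLib.CharDeep.SmallFaithful
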