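import Cfsg.Agent.Lib.CharDeep.SmallFaithful.Reduction
import Cfsg.Agent.Lib.CharDeep.IrrTools
import Cfsg.Agent.Lib.Char.Quotient
import Cfsg.Agent.Lib.DegreeTools.Eigen

/-!
# A small faithful character forces coprime operators to act trivially

If `G` has a faithful character of degree `n` with `n + 1 < p`, a `p`-element normalizing an
`r`-subgroup (`r ≠ p`) centralizes it.
-/

set_option autoImplicit false

open Subgroup

namespace CfsgLib.CharDeep.SmallFaithful

open CfsgLib

variable {G : Type*} [Group G] [Finite G] {p r : ℕ} [hp : Fact p.Prime] [hr : Fact r.Prime]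

/-- A `p`-element that commutes with its commutators with a coprime element commutes with it. -/
theorem eq_one_of_fixed {y q d : G} {k : ℕ} (hy : orderOf y = p ^ k) (hd : ¬ p ∣ orderOf d)
    (hyq : y * q * y⁻¹ = q * d) (hyd : y * d * y⁻¹ = d) : d = 1 := by
  have hi : ∀ i : ℕ, y ^ i * q * (y ^ i)⁻¹ = q * d ^ i := by
    intro i
    induction i with
    | zero => simp
    | succ i ih =>
      rw [pow_succ', pow_succ', mul_inv_rev]
      calc y * y ^ i * q * ((y ^ i)⁻¹ * y⁻¹) = y * (y ^ i * q * (y ^ i)⁻¹) * y⁻¹ := by group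
        _ = (y * q * y⁻¹) * (y * d * y⁻¹) ^ i := by rw [ih, conj_pow]; group
        _ = q * d * d ^ i := by rw [hyq, hyd]
        _ = q * (d * d ^ i) := mul_assoc _ _ _
  have h := hi (p ^ k)
  rw [← hy, pow_orderOf_eq_one, one_mul, inv_one, mul_one, left_eq_mul] at h
  refine orderOf_eq_one_iff.1 (Nat.eq_one_of_dvd_coprimes ?_ dvd_rfl
    (hy ▸ orderOf_dvd_of_pow_eq_one h))
  exact ((hp.out.coprime_iff_not_dvd.2 hd).symm).pow_right k

/-- Elements of a `p`-power order move the set of non-fixed points in `p`-divisible numbers. -/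
theorem dvd_card_of_no_fixed {X : Type*} [Finite X] {y : G} {k : ℕ} (hy : orderOf y = p ^ k)
    [MulAction (zpowers y) X] (h : ∀ a : X, (⟨y, mem_zpowers y⟩ : zpowers y) • a ≠ a) :
    p ∣ Nat.card X := by
  have hP : IsPGroup p (zpowers y) := IsPGroup.of_card (n := k) (by rw [Nat.card_zpowers, hy])
  by_contra hd
  obtain ⟨a, ha⟩ := hP.nonempty_fixed_point_of_prime_not_dvd_card X hd
  exact h a (ha _)

theorem conj_mem_of_zpowers {y : G} {Q : Subgroup G} (hinv : ∀ q ∈ Q, y * q * y⁻¹ ∈ Q)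
    (t : zpowers y) (u : Q) : (t : G) * u * (t : G)⁻¹ ∈ Q := by
  obtain ⟨i, hi⟩ := (isOfFinOrder_of_finite y).mem_powers_iff_mem_zpowers.2 t.2
  rw [← (show y ^ i = (t : G) from hi)]
  clear hi
  induction i with
  | zero => simp
  | succ i ih =>
    rw [pow_succ', mul_inv_rev]
    simpa [mul_assoc] using hinv _ ih
theorem conj_notMem {y : G} {Q : Subgroup G} (hinv : ∀ q ∈ Q, y * q * y⁻¹ ∈ Q) {f : ℕ}
    {φ : Q → ℂ} {ρ : Representation ℂ Q (Fin f → ℂ)} {Z : Subgroup Q}
    (hφinv : ∀ v : Q, φ ⟨y * v * y⁻¹, hinv v v.2⟩ = φ v)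
    (t : zpowers y) (u : Q) (hu : u ∉ Z)
    (hscal : ∀ w : Q, φ w = φ 1 ↔ ρ w = 1)
    (hZiff : ∀ u : Q, u ∈ Z ↔ ∀ v, ρ (u * v * u⁻¹ * v⁻¹) = 1) :
    (⟨(t : G) * u * (t : G)⁻¹, conj_mem_of_zpowers hinv t u⟩ : Q) ∉ Z := by
  obtain ⟨i, hi⟩ := (isOfFinOrder_of_finite y).mem_powers_iff_mem_zpowers.2 t.2
  have hinvn : ∀ (i : ℕ) (v : Q) (h : y ^ i * (v : G) * (y ^ i)⁻¹ ∈ Q),
      φ ⟨y ^ i * v * (y ^ i)⁻¹, h⟩ = φ v := by
    intro i
    induction i with
    | zero => intro v h; exact congrArg φ (Subtype.ext (by simp))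
    | succ i ih =>
      intro v h
      have hm : y ^ i * (v : G) * (y ^ i)⁻¹ ∈ Q := by
        simpa using conj_mem_of_zpowers hinv ⟨y ^ i, pow_mem (mem_zpowers y) i⟩ v
      rw [← ih v hm, ← hφinv ⟨_, hm⟩]
      exact congrArg φ (Subtype.ext (by simp [pow_succ', mul_assoc]))
  intro hmem
  refine hu ((hZiff u).2 fun v => ?_)
  rw [hZiff] at hmem
  have hv : y ^ i * (v : G) * (y ^ i)⁻¹ ∈ Q := by
    simpa using conj_mem_of_zpowers hinv ⟨y ^ i, pow_mem (mem_zpowers y) i⟩ v
  have hc : y ^ i * ((u * v * u⁻¹ * v⁻¹ : Q) : G) * (y ^ i)⁻¹ ∈ Q := by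
    simpa using conj_mem_of_zpowers hinv ⟨y ^ i, pow_mem (mem_zpowers y) i⟩ (u * v * u⁻¹ * v⁻¹)
  rw [← hscal, ← hinvn i _ hc]
  have h1 := (hscal _).2 (hmem ⟨_, hv⟩)
  refine Eq.trans ?_ h1
  exact congrArg φ (Subtype.ext (by simp [← (show y ^ i = (t : G) from hi), mul_assoc]))

/-- **Coprime action in small degree.** -/
theorem commute_of_normalizes {χ : G → ℂ} (hχ : Cfsg.IsCharacter G χ)
    (hfaith : ∀ g : G, χ g = χ 1 → g = 1) (hn : Cfsg.charDegree χ + 1 < p) (hrp : r ≠ p)
    {y : G} {k : ℕ} (hy : orderOf y = p ^ k) :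
    ∀ (m : ℕ) (Q : Subgroup G), Nat.card Q = m → IsPGroup r Q →
      (∀ q ∈ Q, y * q * y⁻¹ ∈ Q) → ∀ q ∈ Q, y * q * y⁻¹ = q := by
  classical
  cases nonempty_fintype G
  intro m
  induction m using Nat.strong_induction_on with
  | _ m ih =>
  intro Q hm hQ hinv
  have hcop : ∀ d ∈ Q, ¬ p ∣ orderOf d := by
    intro d hd hpd
    obtain ⟨j, hj⟩ := IsPGroup.iff_orderOf.1 hQ ⟨d, hd⟩
    rw [Subgroup.orderOf_mk] at hj
    rw [hj] at hpd
    exact hrp ((Nat.prime_dvd_prime_iff_eq hp.out hr.out).1 (hp.out.dvd_of_dvd_pow hpd)).symm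
  -- the commutators generate a `y`-invariant subgroup
  set D := closure {d : G | ∃ q ∈ Q, q⁻¹ * (y * q * y⁻¹) = d} with hD
  have hDQ : D ≤ Q := (closure_le _).2 (by
    rintro _ ⟨q, hq, rfl⟩
    exact Q.mul_mem (Q.inv_mem hq) (hinv q hq))
  have hDinv : ∀ d ∈ D, y * d * y⁻¹ ∈ D := by
    intro d hd
    have h1 : MulAut.conj y d ∈ D.map (MulAut.conj y).toMonoidHom := ⟨d, hd, rfl⟩
    refine (?_ : D.map (MulAut.conj y).toMonoidHom ≤ D) h1
    rw [hD, MonoidHom.map_closure, closure_le]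
    rintro _ ⟨_, ⟨q, hq, rfl⟩, rfl⟩
    refine subset_closure ⟨y * q * y⁻¹, hinv q hq, ?_⟩
    simp only [MulEquiv.coe_toMonoidHom, MulAut.conj_apply]
    group
  by_cases hDtop : D = Q
  swap
  · have hlt : Nat.card D < m := hm ▸ lt_of_le_of_ne (card_le_of_le hDQ)
      fun h => hDtop (eq_of_le_of_card_ge hDQ h.ge)
    have hfix := ih _ hlt D rfl (hQ.to_le hDQ) hDinv
    intro q hq
    have hdD : q⁻¹ * (y * q * y⁻¹) ∈ D := subset_closure ⟨q, hq, rfl⟩
    have h1 := eq_one_of_fixed (q := q) hy (hcop _ (hDQ hdD)) (by group) (hfix _ hdD)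
    rw [inv_mul_eq_one] at h1
    exact h1.symm
  -- elements commuting with all commutators are central in `Q`
  have hgen : ∀ c ∈ Q, (∀ q ∈ Q, Commute c (q⁻¹ * (y * q * y⁻¹))) → ∀ v ∈ Q, Commute c v := by
    intro c _ hc v hv
    have : D ≤ centralizer ({c} : Set G) := (closure_le _).2 (by
      rintro _ ⟨q, hq, rfl⟩
      exact mem_centralizer_singleton_iff.2 (hc q hq).symm.eq)
    exact (mem_centralizer_singleton_iff.1 (this (hDtop.symm ▸ hv))).symm
  by_cases hbot : Q = ⊥
  · intro q hq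
    rw [hbot, mem_bot] at hq
    simp [hq]
  -- the derived subgroup is proper, hence fixed
  set Q' := ⁅Q, Q⁆ with hQ'
  have hQ'le : Q' ≤ Q := commutator_le_self Q
  have hQ'lt : Q' ≠ Q := by
    haveI : Nontrivial Q := (nontrivial_iff_ne_bot Q).2 hbot
    haveI : Group.IsNilpotent Q := hQ.isNilpotent
    intro h
    have h1 : commutator Q = ⊤ := map_injective Q.subtype_injective (by
      rw [map_subtype_commutator, ← MonoidHom.range_eq_map, range_subtype]; exact h)
    exact (Group.IsSolvable.commutator_lt_top_of_nontrivial Q).ne h1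
  have hQ'inv : ∀ c ∈ Q', y * c * y⁻¹ ∈ Q' := by
    intro c hc
    have h1 : MulAut.conj y c ∈ Q'.map (MulAut.conj y).toMonoidHom := ⟨c, hc, rfl⟩
    refine (?_ : Q'.map (MulAut.conj y).toMonoidHom ≤ Q') h1
    rw [hQ', map_commutator]
    exact commutator_mono (map_le_iff_le_comap.2 fun q hq => hinv q hq)
      (map_le_iff_le_comap.2 fun q hq => hinv q hq)
  have hQ'fix := ih _ (hm ▸ lt_of_le_of_ne (card_le_of_le hQ'le)
    fun h => hQ'lt (eq_of_le_of_card_ge hQ'le h.ge)) Q' rfl (hQ.to_le hQ'le) hQ'inv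
  -- fixed elements are central in `Q`
  have hcent : ∀ c ∈ Q, y * c * y⁻¹ = c → ∀ v ∈ Q, Commute c v := by
    intro c hcQ hc
    refine hgen c hcQ fun q hq => ?_
    have h1 := hQ'fix _ (commutator_mem_commutator hcQ hq)
    rw [commutatorElement_def] at h1
    have h2 : c * (y * q * y⁻¹) * c⁻¹ * (y * q * y⁻¹)⁻¹ = c * q * c⁻¹ * q⁻¹ := by
      rw [← h1]
      conv_lhs => rw [← hc]
      group
    have h3 : (y * q * y⁻¹) * c⁻¹ * (y * q * y⁻¹)⁻¹ = q * c⁻¹ * q⁻¹ :=
      mul_left_cancel (a := c) (by simpa [mul_assoc] using h2)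
    have h4 : Commute c⁻¹ (q⁻¹ * (y * q * y⁻¹)) := by
      show c⁻¹ * _ = _ * c⁻¹
      generalize y * q * y⁻¹ = q' at h3 ⊢
      calc c⁻¹ * (q⁻¹ * q') = q⁻¹ * (q * c⁻¹ * q⁻¹) * q' := by group
        _ = q⁻¹ * (q' * c⁻¹ * q'⁻¹) * q' := by rw [h3]
        _ = q⁻¹ * q' * c⁻¹ := by group
    simpa using h4.inv_left
  have hclass : ∀ c ∈ Q', ∀ v ∈ Q, Commute c v := fun c hc =>
    hcent c (hQ'le hc) (hQ'fix c hc)
  -- the constituents on `Q` are invariant
  intro q hq
  by_contra hne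
  haveI : Fintype Q := Fintype.ofFinite _
  have hres := Char.IsCharacter.restrict hχ Q
  obtain ⟨μ, hμ, hexp⟩ := Char.IsCharacter.exists_multiplicity hres
  let σ : Q ≃* Q :=
    { toFun := fun v => ⟨y * v * y⁻¹, hinv v v.2⟩
      invFun := fun v => ⟨y⁻¹ * v * y, by
        obtain ⟨i, hi⟩ : ∃ i : ℕ, y ^ i = y⁻¹ :=
          (isOfFinOrder_of_finite y).mem_powers_iff_mem_zpowers.2 (inv_mem (mem_zpowers y))
        have hpow : ∀ i : ℕ, y ^ i * v * (y ^ i)⁻¹ ∈ Q := by
          intro i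
          induction i with
          | zero => simp
          | succ i ih =>
            rw [pow_succ', mul_inv_rev]
            simpa [mul_assoc] using hinv _ ih
        have := hpow i
        rwa [hi, inv_inv] at this⟩
      left_inv := fun v => Subtype.ext (by simp [mul_assoc])
      right_inv := fun v => Subtype.ext (by simp [mul_assoc])
      map_mul' := fun a b => Subtype.ext (by simp [mul_assoc]) }
  -- some constituent is not scalar on commutators
  by_cases hab : ∀ φ : Cfsg.IrrCharacter Q, μ φ ≠ 0 → ∀ u v : Q,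
      (φ : Q → ℂ) (u * v * u⁻¹ * v⁻¹) = (φ : Q → ℂ) 1
  · -- then `Q` is abelian, hence centralized
    have hQab : ∀ u ∈ Q, ∀ v ∈ Q, u * v = v * u := by
      intro u hu v hv
      have h1 : χ ((⟨u, hu⟩ * ⟨v, hv⟩ * ⟨u, hu⟩⁻¹ * ⟨v, hv⟩⁻¹ : Q) : G) = χ ((1 : Q) : G) := by
        rw [hexp, hexp]
        refine Finset.sum_congr rfl fun φ _ => ?_
        by_cases h0 : μ φ = 0
        · simp [h0]
        · rw [hab φ h0]
      have h2 := hfaith _ h1
      simp only [Subgroup.coe_mul, Subgroup.coe_inv] at h2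
      rw [mul_inv_eq_one] at h2
      exact mul_inv_eq_iff_eq_mul.1 h2
    obtain ⟨d, ρ, hρ⟩ := hχ
    obtain ⟨W, s, hU, hdim, hker⟩ := SmallCommute.exists_unitary ρ
    have hinj : Function.Injective s := fun a b e => by
      have h1 : s (a⁻¹ * b) = 1 := by rw [map_mul, ← e, ← map_mul, inv_mul_cancel, map_one]
      have h2 : a⁻¹ * b = 1 := hfaith _ (by
        rw [← hρ]
        show LinearMap.trace ℂ _ (ρ (a⁻¹ * b)) = LinearMap.trace ℂ _ (ρ 1)
        rw [hker _ h1, map_one ρ])
      exact inv_mul_eq_one.1 h2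
    have hdeg : Cfsg.charDegree χ = d := by
      rw [← hρ, Cfsg.charDegree, Representation.char_one, Module.finrank_fin_fun, Complex.natCast_re,
        Nat.floor_natCast]
    have hle := Blichfeldt.le_centralizer_of_normalizes (V := W) s hU hinj (p := p) (by omega)
      (IsPGroup.of_card (n := k) (by rw [Nat.card_zpowers, hy]) : IsPGroup p (zpowers y)) hQab (by
        rw [zpowers_le, mem_normalizer_iff]
        refine fun v => ⟨hinv v, fun hv => ?_⟩
        have := (σ.symm ⟨y * v * y⁻¹, hv⟩).2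
        simpa [σ, mul_assoc] using this)
    refine hne ?_
    rw [← mem_centralizer_iff.1 (hle (mem_zpowers y)) q hq, mul_inv_cancel_right]
  push Not at hab
  obtain ⟨φ, hφ0, u₀, v₀, huv⟩ := hab
  obtain ⟨f, ρ, hρi, hρc⟩ := φ.2
  haveI := hρi
  have hscal : ∀ w : Q, (φ : Q → ℂ) w = (φ : Q → ℂ) 1 ↔ ρ w = 1 := fun w => by
    rw [← hρc, Representation.char_one, Char.char_eq_finrank_iff]
    rfl
  have hφdeg : f ≤ Cfsg.charDegree χ := by
    obtain ⟨a, b, ha, hb, hle, -⟩ := Char.IsCharacter.constituent_degree_le hres φ.2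
      (by rw [hμ]; exact_mod_cast hφ0)
    have e1 : f = a := by
      rw [← hρc, Representation.char_one, Module.finrank_fin_fun] at ha
      exact_mod_cast ha
    have e2 : Cfsg.charDegree χ = b := by
      rw [Cfsg.charDegree, show χ 1 = (b : ℂ) by rw [← hb]; simp, Complex.natCast_re,
        Nat.floor_natCast]
    omega
  -- the orbit of `φ` under `y` has fewer than `p` members, so it is a point
  have hφinv : ∀ v : Q, (φ : Q → ℂ) (σ v) = (φ : Q → ℂ) v := by
    by_contra hmove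
    push Not at hmove
    obtain ⟨v₁, hv₁⟩ := hmove
    let τ : Equiv.Perm (Cfsg.IrrCharacter Q) :=
      { toFun := fun ψ => ⟨(ψ : Q → ℂ) ∘ σ, Char.IsIrrCharacter.comp_equiv ψ.2 σ⟩
        invFun := fun ψ => ⟨(ψ : Q → ℂ) ∘ σ.symm, Char.IsIrrCharacter.comp_equiv ψ.2 σ.symm⟩
        left_inv := fun ψ => Subtype.ext (funext fun v => congrArg (ψ : Q → ℂ) (σ.apply_symm_apply v))
        right_inv := fun ψ => Subtype.ext (funext fun v => congrArg (ψ : Q → ℂ) (σ.symm_apply_apply v)) }
    have hτφ : τ φ ≠ φ := fun h => hv₁ (congrArg (fun ψ : Cfsg.IrrCharacter Q => (ψ : Q → ℂ) v₁) h)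
    have hτk : τ ^ p ^ k = 1 := by
      have hit : ∀ (i : ℕ) (ψ : Cfsg.IrrCharacter Q) (v : Q), ((τ ^ i) ψ : Q → ℂ) v =
          (ψ : Q → ℂ) ((σ ^ i : MulAut Q) v) := by
        intro i
        induction i with
        | zero => intro ψ v; rfl
        | succ i ih =>
          intro ψ v
          rw [pow_succ, Equiv.Perm.mul_apply, ih, pow_succ', MulAut.mul_apply]
          rfl
      have hσ : ∀ (i : ℕ) (v : Q), (((σ ^ i : MulAut Q) v : Q) : G) = y ^ i * v * (y ^ i)⁻¹ := by
        intro i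
        induction i with
        | zero => intro v; simp
        | succ i ih =>
          intro v
          rw [pow_succ', MulAut.mul_apply]
          show y * _ * y⁻¹ = _
          rw [ih]
          simp [pow_succ', mul_assoc]
      refine Equiv.ext fun ψ => Subtype.ext (funext fun v => ?_)
      rw [hit]
      exact congrArg (ψ : Q → ℂ) (Subtype.ext (by rw [hσ, ← hy, pow_orderOf_eq_one]; simp))
    have hμτ : ∀ ψ, μ (τ ψ) = μ ψ := by
      intro ψ
      apply Nat.cast_injective (R := ℂ)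
      rw [← hμ, ← hμ, Cfsg.classInner, Cfsg.classInner]
      congr 1
      refine Fintype.sum_equiv σ.toEquiv _ _ fun v => ?_
      show χ (v : G) * _ = χ ((σ v : Q) : G) * _
      rw [show ((σ v : Q) : G) = y * v * y⁻¹ from rfl,
        Char.IsCharacter.isClassFunction hχ (v : G) y]
      rfl
    set S := Finset.univ.filter fun ψ : Cfsg.IrrCharacter Q => μ ψ ≠ 0 with hS
    have hcardS : S.card ≤ Cfsg.charDegree χ := by
      have h1 : Cfsg.charDegree χ = ∑ ψ, μ ψ * Cfsg.charDegree (ψ : Q → ℂ) := by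
        apply Nat.cast_injective (R := ℂ)
        push_cast
        have := hexp 1
        simp only [OneMemClass.coe_one] at this
        rw [DegreeTools.charDegree_cast hχ, this]
        simp only [DegreeTools.deg_cast]
      rw [h1, ← Finset.sum_filter_of_ne (p := fun ψ => μ ψ ≠ 0) (fun ψ _ h h0 => h (by rw [h0, zero_mul])),
        Finset.card_eq_sum_ones]
      exact Finset.sum_le_sum fun ψ hψ =>
        Nat.mul_pos (Nat.pos_of_ne_zero (Finset.mem_filter.1 hψ).2) (DegreeTools.deg_pos ψ)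
    have hcyc : τ.support.card ≥ 0 := Nat.zero_le _
    -- all iterates lie in `S`, so `p` distinct ones would be too many
    have hmem : ∀ i : ℕ, (τ ^ i) φ ∈ S := by
      intro i
      induction i with
      | zero => simpa [hS] using hφ0
      | succ i ih =>
        rw [pow_succ', Equiv.Perm.mul_apply]
        simp only [hS, Finset.mem_filter, Finset.mem_univ, true_and, hμτ] at ih ⊢
        exact ih
    have hper : Function.minimalPeriod τ φ ∣ p ^ k :=
      Function.IsPeriodicPt.minimalPeriod_dvd (show (τ : _ → _)^[p ^ k] φ = φ by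
        rw [← Equiv.Perm.coe_pow, hτk]; rfl)
    obtain ⟨j, -, hj⟩ := (Nat.dvd_prime_pow hp.out).1 hper
    rcases j with _ | j
    · rw [pow_zero, Function.minimalPeriod_eq_one_iff_isFixedPt] at hj
      exact hτφ hj
    have hge : p ≤ S.card := by
      have hple : p ≤ Function.minimalPeriod τ φ := hj ▸ Nat.le_self_pow (Nat.succ_ne_zero j) p
      refine (le_of_eq (Finset.card_range p).symm).trans
        (Finset.card_le_card_of_injOn (fun i => (τ ^ i) φ) (fun i _ => hmem i) ?_)
      intro a ha b hb hab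
      simp only [Finset.coe_range, Set.mem_Iio] at ha hb
      simp only [Equiv.Perm.coe_pow] at hab
      exact Function.iterate_injOn_Iio_minimalPeriod (Set.mem_Iio.2 (by omega)) (Set.mem_Iio.2 (by omega)) hab
    omega
  -- the centre of `φ`
  let Z : Subgroup Q :=
    { carrier := {u | ∀ v, Commute (ρ u) (ρ v)}
      one_mem' := fun v => by rw [map_one]; exact Commute.one_left _
      mul_mem' := fun {a b} ha hb v => by rw [map_mul]; exact (ha v).mul_left (hb v)
      inv_mem' := fun {a} ha v => by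
        have h := ha v
        show ρ a⁻¹ * ρ v = ρ v * ρ a⁻¹
        calc ρ a⁻¹ * ρ v = ρ a⁻¹ * (ρ v * ρ a) * ρ a⁻¹ := by
              simp [mul_assoc, ← map_mul]
          _ = ρ a⁻¹ * (ρ a * ρ v) * ρ a⁻¹ := by rw [h.eq]
          _ = ρ v * ρ a⁻¹ := by simp [← map_mul, ← mul_assoc] }
  have hZiff : ∀ u : Q, u ∈ Z ↔ ∀ v, ρ (u * v * u⁻¹ * v⁻¹) = 1 := by
    intro u
    refine ⟨fun h v => ?_, fun h v => ?_⟩
    · simp only [map_mul]
      rw [(h v).eq]
      simp [← map_mul, mul_assoc]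
    · show ρ u * ρ v = ρ v * ρ u
      rw [← map_mul, show u * v = u * v * u⁻¹ * v⁻¹ * (v * u) by group, map_mul, h v, one_mul, map_mul]
  have hvan : ∀ u : Q, u ∉ Z → (φ : Q → ℂ) u = 0 := by
    intro u hu
    rw [hZiff] at hu
    push Not at hu
    obtain ⟨v, hv⟩ := hu
    set c := u * v * u⁻¹ * v⁻¹ with hc
    have hcQ' : (c : G) ∈ Q' := by
      simpa [hc, commutatorElement_def] using commutator_mem_commutator u.2 v.2
    obtain ⟨w, hw⟩ := IrrTools.exists_smul_of_commute ρ (ρ c) fun z => by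
      rw [← map_mul, ← map_mul]
      exact congrArg ρ (Subtype.ext (hclass _ hcQ' z z.2).eq)
    have hw1 : w ≠ 1 := fun h => hv (by rw [hw, h, one_smul])
    have hswap : v * u * v⁻¹ = c⁻¹ * u := by rw [hc]; group
    have h1 : (φ : Q → ℂ) u = (φ : Q → ℂ) (c⁻¹ * u) := by
      rw [← hswap]
      exact (Char.IsIrrCharacter.isClassFunction φ.2 u v).symm
    have h2 : (φ : Q → ℂ) (c * u) = (φ : Q → ℂ) u := by
      have h3 : c * (v * u * v⁻¹) = u := by rw [hswap, mul_inv_cancel_left]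
      have h4 : v * (c * u) * v⁻¹ = u := by
        conv_rhs => rw [← h3]
        have hcv : Commute c v := Subtype.ext (hclass _ hcQ' v v.2).eq
        rw [← mul_assoc v c, ← hcv.eq]
        group
      have := Char.IsIrrCharacter.isClassFunction φ.2 (c * u) v
      rw [h4] at this
      exact this.symm
    rw [← hρc] at h2 ⊢
    simp only [Representation.character, map_mul, hw, smul_mul_assoc, one_mul, map_smul,
      smul_eq_mul] at h2
    by_contra h0
    exact hw1 ((mul_eq_right₀ h0).1 h2)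
  have hmod : ∀ u : Q, u ∈ Z → ‖(φ : Q → ℂ) u‖ = f := by
    intro u hu
    obtain ⟨w, hw⟩ := IrrTools.exists_smul_of_commute ρ (ρ u) hu
    have hpow : ρ u ^ orderOf u = 1 := by rw [← map_pow, pow_orderOf_eq_one, map_one]
    haveI : Nontrivial (Fin f → ℂ) := DegreeTools.Eigen.nontrivial_of_isIrreducible hρi
    have hw1 : w ^ orderOf u = 1 := by
      rw [hw, smul_pow, one_pow] at hpow
      exact smul_left_injective ℂ (one_ne_zero (α := Module.End ℂ (Fin f → ℂ)))
        (show w ^ orderOf u • (1 : Module.End ℂ (Fin f → ℂ)) = (1 : ℂ) • 1 by rw [hpow, one_smul])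
    rw [← hρc]
    simp only [Representation.character, hw, map_smul, LinearMap.trace_one, Module.finrank_fin_fun,
      smul_eq_mul, norm_mul, Complex.norm_natCast,
      Complex.norm_eq_one_of_pow_eq_one hw1 (orderOf_pos u).ne', one_mul]
  have hnorm := DegreeTools.sum_norm_sq φ
  rw [← Finset.sum_filter_add_sum_filter_not Finset.univ (fun u : Q => u ∈ Z),
    Finset.sum_congr rfl fun u hu => by rw [hmod u (Finset.mem_filter.1 hu).2],
    Finset.sum_eq_zero (s := Finset.univ.filter fun u : Q => ¬ u ∈ Z)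
      (fun u hu => by rw [hvan u (Finset.mem_filter.1 hu).2, norm_zero]; ring),
    Finset.sum_const, add_zero, nsmul_eq_mul, ← Fintype.card_subtype, ← Nat.card_eq_fintype_card] at hnorm
  have hcard : Nat.card Q = Nat.card Z * f ^ 2 := by exact_mod_cast hnorm.symm
  -- `y` moves every element outside `Z`
  letI : MulAction (zpowers y) {u : Q // u ∉ Z} :=
    { smul := fun t u => ⟨⟨(t : G) * u.1 * (t : G)⁻¹, conj_mem_of_zpowers hinv t u.1⟩,
        conj_notMem hinv hφinv t u.1 u.2 hscal hZiff⟩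
      one_smul := fun u => Subtype.ext (Subtype.ext (by
        show ((1 : zpowers y) : G) * u.1 * ((1 : zpowers y) : G)⁻¹ = u.1
        simp))
      mul_smul := fun a b u => Subtype.ext (Subtype.ext (by
        show ((a * b : zpowers y) : G) * u.1 * ((a * b : zpowers y) : G)⁻¹ =
          (a : G) * ((b : G) * u.1 * (b : G)⁻¹) * (a : G)⁻¹
        simp [mul_assoc])) }
  have hdvd : p ∣ Nat.card {u : Q // u ∉ Z} := dvd_card_of_no_fixed hy fun u hu => u.2 (by
    have h1 : y * (u.1 : G) * y⁻¹ = (u.1 : G) :=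
      congrArg (fun t : {u : Q // u ∉ Z} => ((t.1 : Q) : G)) hu
    exact fun v => by
      have := (hcent _ u.1.2 h1 v v.2).eq
      show ρ u.1 * ρ v = ρ v * ρ u.1
      rw [← map_mul, ← map_mul]
      exact congrArg ρ (Subtype.ext this))
  have hsub : Nat.card {u : Q // u ∉ Z} = Nat.card Z * (f ^ 2 - 1) := by
    rw [Nat.card_eq_fintype_card, Fintype.card_subtype_compl, ← Nat.card_eq_fintype_card,
      ← Nat.card_eq_fintype_card, hcard, Nat.mul_sub, mul_one]
  have hpZ : ¬ p ∣ Nat.card Z := by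
    obtain ⟨j, hj⟩ := (hQ.to_subgroup Z).exists_card_eq
    rw [hj]
    exact fun h => hrp ((Nat.prime_dvd_prime_iff_eq hp.out hr.out).1 (hp.out.dvd_of_dvd_pow h)).symm
  rw [hsub] at hdvd
  have h2 := (hp.out.dvd_mul.1 hdvd).resolve_left hpZ
  have hf1 : f ≠ 1 := by
    intro hf
    apply huv
    rw [hscal]
    subst hf
    obtain ⟨a, ha⟩ := Char.exists_hom_of_apply_one_eq_one (Char.isCharacter_irr φ)
      (by rw [← hρc]; simp)
    rw [← hscal, ha]
    simp [mul_comm (a u₀)]
  have hf0 : 0 < f := by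
    rcases Nat.eq_zero_or_pos f with h | h
    · exfalso
      subst h
      haveI := DegreeTools.Eigen.nontrivial_of_isIrreducible hρi
      exact not_subsingleton (Fin 0 → ℂ) inferInstance
    · exact h
  rw [show f ^ 2 - 1 = (f + 1) * (f - 1) by rw [← Nat.sq_sub_sq], hp.out.dvd_mul] at h2
  rcases h2 with h2 | h2 <;> have := Nat.le_of_dvd (by omega) h2 <;> omega
end CfsgLib.CharDeep.SmallFaithful
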